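import Cfsg.Agent.Lib.Lie.TwistF4
import Cfsg.Agent.Lib.Lie.XMat

/-!
Matrices of the Chevalley group of type F₄ over the field with two elements as lists of bit columns.
-/

set_option autoImplicit false

namespace Cfsg.Agent.Lie.F4Two

open Cfsg.Lie Matrix
open scoped MatrixGroups

/-- The group GL on the 52 coordinates. -/
abbrev GF : Type := GL chevF4.Idx (ZMod 2)

/-- Bit `i` of `v` as an element of the field with two elements. -/
def bz (v i : ℕ) : ZMod 2 := if v.testBit i then 1 else 0

theorem bz_xor (a b i : ℕ) : bz (a ^^^ b) i = bz a i + bz b i := by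
  unfold bz
  rw [Nat.testBit_xor]
  cases a.testBit i <;> cases b.testBit i <;> decide

theorem bz_zero (i : ℕ) : bz 0 i = 0 := by simp [bz]

/-- The image of the bit vector `v` under the matrix with columns `A`. -/
noncomputable def app (A : List ℕ) : ℕ → ℕ :=
  @List.rec ℕ (fun _ => ℕ → ℕ) (fun _ => 0)
    (fun c _ ih v => Nat.xor (Nat.mul (Nat.mod v 2) c) (ih (Nat.div v 2))) A

theorem app_nil (v : ℕ) : app [] v = 0 := rfl

theorem app_cons (c : ℕ) (cs : List ℕ) (v : ℕ) : app (c :: cs) v = (v % 2 * c) ^^^ app cs (v / 2) := rfl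

theorem bz_app : ∀ (A : List ℕ) (v i : ℕ),
    bz (app A v) i = ∑ j ∈ Finset.range A.length, bz (A.getD j 0) i * bz v j
  | [], v, i => by simp [app_nil, bz_zero]
  | c :: cs, v, i => by
    rw [app_cons, bz_xor, bz_app cs (v / 2) i, List.length_cons, Finset.sum_range_succ', add_comm]
    congr 1
    · refine Finset.sum_congr rfl fun j _ => ?_
      simp [bz, Nat.testBit_succ]
    · rcases Nat.mod_two_eq_zero_or_one v with h | h <;> simp [bz, h, Nat.testBit_zero]

/-- The product of two lists of columns. -/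
noncomputable def mulL (A B : List ℕ) : List ℕ := B.map (app A)

/-- The position of a coordinate. -/
def pos (q : chevF4.Idx) : ℕ := (idxEquiv chevF4 q : ℕ)

theorem pos_lt (q : chevF4.Idx) : pos q < 52 := (idxEquiv chevF4 q).isLt

theorem pos_inj {p q : chevF4.Idx} (h : pos p = pos q) : p = q :=
  (idxEquiv chevF4).injective (Fin.ext h)

theorem sum_pos (f : ℕ → ZMod 2) : ∑ k : chevF4.Idx, f (pos k) = ∑ j ∈ Finset.range 52, f j := by
  rw [← Fin.sum_univ_eq_sum_range f 52]
  exact (idxEquiv chevF4).sum_comp (fun j : Fin (chevF4.rank + chevF4.nroots) => f j.val)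

/-- `A` lists the columns of `g`. -/
def Rep (g : GF) (A : List ℕ) : Prop :=
  A.length = 52 ∧ ∀ p q : chevF4.Idx, g.val p q = bz (A.getD (pos q) 0) (pos p)

theorem Rep.mul {g h : GF} {A B : List ℕ} (hg : Rep g A) (hh : Rep h B) :
    Rep (g * h) (mulL A B) := by
  refine ⟨by rw [mulL, List.length_map, hh.1], fun p q => ?_⟩
  rw [Units.val_mul, Matrix.mul_apply]
  simp only [hg.2, hh.2]
  rw [sum_pos (fun j => bz (A.getD j 0) (pos p) * bz (B.getD (pos q) 0) j)]
  have hq : pos q < B.length := by rw [hh.1]; exact pos_lt q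
  rw [mulL, List.getD_eq_getElem (B.map (app A)) 0 (n := pos q) (by rw [List.length_map]; exact hq),
    List.getElem_map,
    bz_app, hg.1, List.getD_eq_getElem _ _ hq]

theorem Rep.eq {g h : GF} {A : List ℕ} (hg : Rep g A) (hh : Rep h A) : g = h :=
  Units.ext (Matrix.ext fun p q => (hg.2 p q).trans (hh.2 p q).symm)

theorem Rep.mulVec {g : GF} {A : List ℕ} (hg : Rep g A) (v : ℕ) :
    g.val *ᵥ (fun q => bz v (pos q)) = fun p => bz (app A v) (pos p) := by
  funext p
  rw [Matrix.mulVec, dotProduct]
  simp only [hg.2]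
  rw [sum_pos (fun j => bz (A.getD j 0) (pos p) * bz v j), bz_app, hg.1]

/-- The identity columns. -/
def idL : List ℕ := (List.range 52).map fun j => 2 ^ j

theorem rep_one : Rep (1 : GF) idL := by
  refine ⟨by simp [idL], fun p q => ?_⟩
  rw [Units.val_one, Matrix.one_apply, idL,
    List.getD_eq_getElem _ _ (by simpa using pos_lt q), List.getElem_map, List.getElem_range]
  simp only [bz, Nat.testBit_two_pow]
  by_cases h : p = q
  · simp [h]
  · rw [if_neg h, if_neg]
    simpa using fun e => h (pos_inj e.symm)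

/-- Column `j` of `1 +` a term list at `t = 1`. -/
def colOf : List Tm → ℕ → ℕ
  | [], j => 2 ^ j
  | m :: L, j => (bif m.col == j && m.c % 2 == 1 then 2 ^ m.row else 0) ^^^ colOf L j

theorem bz_colOf : ∀ (L : List Tm) (p q : chevF4.Idx),
    bz (colOf L (pos q)) (pos p) = (1 + ev chevF4 (ZMod 2) 1 1 L) p q
  | [], p, q => by
    rw [colOf, ev, evL_nil, add_zero, Matrix.one_apply]
    simp only [bz, Nat.testBit_two_pow]
    by_cases h : p = q
    · simp [h]
    · rw [if_neg h, if_neg]
      simpa using fun e => h (pos_inj e.symm)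
  | m :: L, p, q => by
    have e : (1 + ev chevF4 (ZMod 2) 1 1 (m :: L)) p q =
        m.ev (idxEquiv chevF4) 1 1 p q + (1 + ev chevF4 (ZMod 2) 1 1 L) p q := by
      simp only [ev, evL_cons, Matrix.add_apply]; ring
    rw [colOf, bz_xor, bz_colOf L p q, e, tm_ev_apply]
    congr 1
    simp only [one_pow, mul_one]
    show bz _ _ = if pos p = m.row ∧ pos q = m.col then (m.c : ZMod 2) else 0
    rcases Int.emod_two_eq_zero_or_one m.c with hc | hc
    · have h0 : (m.c : ZMod 2) = 0 :=
        (ZMod.intCast_zmod_eq_zero_iff_dvd _ 2).2 (Int.dvd_of_emod_eq_zero hc)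
      simp [hc, h0, bz_zero]
    · have h1 : (m.c : ZMod 2) = 1 := by
        rw [← Int.emod_add_mul_ediv m.c 2, hc, Int.cast_add, Int.cast_mul, show ((2 : ℤ) : ZMod 2) = 0 by decide]
        simp
      by_cases hq : m.col = pos q
      · simp [hc, h1, hq, bz, Nat.testBit_two_pow, eq_comm]
      · rw [if_neg (fun h => hq h.2.symm), beq_eq_false_iff_ne.2 hq, Bool.false_and, cond_false, bz_zero]

/-- The columns of a root element. -/
def xL (r : ℕ) : List ℕ := (List.range 52).map (colOf (ent chevF4 r))

theorem rep_xg (r : ℕ) : Rep (factsF4.xg r (1 : ZMod 2)) (xL r) := by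
  refine ⟨by simp [xL], fun p q => ?_⟩
  rw [xL, List.getD_eq_getElem _ _ (by simpa using pos_lt q), List.getElem_map, List.getElem_range,
    bz_colOf]
  exact congrArg (fun M : Matrix _ _ (ZMod 2) => M p q)
    ((Facts.coe_xg factsF4 r (1 : ZMod 2)).trans (x_eq chevF4 (ZMod 2) r 1 1))

/-- A word in root elements. -/
noncomputable def wx (L : List ℕ) : GF := (L.map fun r => factsF4.xg r (1 : ZMod 2)).prod

/-- The columns of a word in root elements. -/
noncomputable def wL : List ℕ → List ℕ
  | [] => idL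
  | r :: L => mulL (xL r) (wL L)

theorem rep_wx : ∀ L : List ℕ, Rep (wx L) (wL L)
  | [] => rep_one
  | r :: L => by
    rw [wx, List.map_cons, List.prod_cons]
    exact (rep_xg r).mul (rep_wx L)

theorem wx_cons (r : ℕ) (L : List ℕ) : wx (r :: L) = factsF4.xg r (1 : ZMod 2) * wx L := by
  simp [wx]

theorem wx_nil : wx [] = 1 := rfl

end Cfsg.Agent.Lie.F4Two
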