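import Cfsg.Agent.Lib.Lie.F4Two.Bits
import Cfsg.Agent.Lib.Lie.F4Two.Data

/-!
Computations in ²F₄(2): 4096 products of the generators act differently on a test vector, and the outer
ones are not involutions.
-/

set_option autoImplicit false
set_option maxRecDepth 20000
set_option maxHeartbeats 4000000

namespace Cfsg.Agent.Lie.F4Two

/-- The words in the generators. -/
def Ws : ℕ → List (List ℕ)
  | 0 => [[]]
  | k + 1 => Ws k ++ (Ws k).map (k :: ·)

/-- The action of a word on a bit vector. -/
noncomputable def act : List ℕ → ℕ → ℕ
  | [], z => z
  | k :: w, z => app (gM.getD k []) (act w z)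

/-- The words in the generators with their images of the test vector. -/
noncomputable def Wv : ℕ → List (List ℕ × ℕ)
  | 0 => [([], vv)]
  | k + 1 => (fun L => L ++ L.map fun p => (k :: p.1, app (gM.getD k []) p.2)) (Wv k)

theorem sep : (List.range 12).all (fun k => (Wv k).all fun p =>
    p.2.testBit (bb.getD k 0) == vv.testBit (bb.getD k 0) &&
      (app (gM.getD k []) p.2).testBit (bb.getD k 0) == !vv.testBit (bb.getD k 0)) = true := by
  decide +kernel

theorem outer : (Wv 12).all (fun p => !p.1.contains 7 || act p.1 p.2 != vv) = true := by
  decide +kernel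

theorem gen_even : (List.range 12).all
    (fun k => k == 7 || ((gD.getD k []).countP fun j => Nat.ble 4 j) % 2 == 0) = true := by
  decide +kernel

theorem gen_pos : gP.all (fun L => L.all fun r => Nat.ble 24 r && Nat.blt r 48) = true := by
  decide +kernel

end Cfsg.Agent.Lie.F4Two
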