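import Cfsg.Agent.Lib.Lie.F4Two.Bits
import Cfsg.Agent.Lib.Lie.F4Two.XData

/-!
The tabulated root elements of F₄ over the field with two elements.
-/

set_option autoImplicit false
set_option maxRecDepth 20000
set_option maxHeartbeats 4000000

namespace Cfsg.Agent.Lie.F4Two

theorem xT_supp : supp.all (fun r => xL r == xT r) = true := by decide +kernel

end Cfsg.Agent.Lie.F4Two
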