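import Cfsg.Agent.Lib.Lie.F4Two.Mat
import Cfsg.Agent.Lib.Lie.F4Two.Supp
import Cfsg.Agent.Lib.Lie.F4Two.Sep

/-!
Twelve generators of a Sylow 2-subgroup of ²F₄(2) and their images modulo the commutator subgroup.
-/

set_option autoImplicit false
set_option maxRecDepth 4000

attribute [local irreducible] Cfsg.Agent.Lie.F4Two.mulL Cfsg.Agent.Lie.F4Two.wT Cfsg.Agent.Lie.F4Two.bT

namespace Cfsg.Agent.Lie.F4Two

open Cfsg.Lie Matrix
open scoped MatrixGroups

/-- The group ²F₄(2). -/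
abbrev GT : Type := ↥(twistedF4 (ZMod 2) 1)

theorem wx_append (L L' : List ℕ) : wx (L ++ L') = wx L * wx L' := by
  simp [wx]

theorem wL_eq_wT : ∀ L : List ℕ, (∀ r ∈ L, r ∈ supp) → wL L = wT L
  | [], _ => by rw [wL, wT]
  | r :: L, h => by
    rw [wL, wT, wL_eq_wT L fun s hs => h s (List.mem_cons_of_mem _ hs)]
    congr 1
    exact beq_iff_eq.1 (List.all_eq_true.1 xT_supp r (h r (List.mem_cons_self ..)))

theorem rep_wT {L : List ℕ} (h : L.all (fun r => supp.contains r) = true) : Rep (wx L) (wT L) := by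
  rw [← wL_eq_wT L fun r hr => by simpa using List.all_eq_true.1 h r hr]
  exact rep_wx L

theorem wx_mem {L : List ℕ} (w : List (ℕ × ZMod 2)) (hw : w ∈ f4Words (ZMod 2) 1)
    (h : factsF4.wg w = wx L) : wx L ∈ twistedF4 (ZMod 2) 1 :=
  h ▸ Subgroup.subset_closure ⟨w, hw, factsF4.coe_wg w⟩

theorem wA_mem : wx [33, 24] ∈ twistedF4 (ZMod 2) 1 :=
  wx_mem (f4PairWord 1 f4p1 f4p4 1) (Or.inl ⟨1, Or.inl rfl⟩)
    (by simp [f4PairWord, f4p1, f4p4, Facts.wg, wx])

theorem wAm_mem : wx [14, 23] ∈ twistedF4 (ZMod 2) 1 :=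
  wx_mem (f4PairWord 1 f4m1 f4m4 1) (Or.inl ⟨1, Or.inr rfl⟩)
    (by simp [f4PairWord, f4m1, f4m4, Facts.wg, wx])

theorem wC_mem : wx [27, 25, 28] ∈ twistedF4 (ZMod 2) 1 :=
  wx_mem (b2ClassWord 1 f4a f4b f4ab f4aab 1 0) (Or.inr ⟨1, 0, Or.inl rfl⟩)
    (by simp [b2ClassWord, f4a, f4b, f4ab, f4aab, Facts.wg, wx, Facts.xg_zero])

theorem wCm_mem : wx [20, 22, 19] ∈ twistedF4 (ZMod 2) 1 :=
  wx_mem (b2ClassWord 1 f4ma f4mb f4mab f4maab 1 0) (Or.inr ⟨1, 0, Or.inr rfl⟩)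
    (by simp [b2ClassWord, f4ma, f4mb, f4mab, f4maab, Facts.wg, wx, Facts.xg_zero])

/-- The generator of the positive pair. -/
noncomputable def eA : GT := ⟨wx [33, 24], wA_mem⟩

/-- The generator of the negative pair. -/
noncomputable def eAm : GT := ⟨wx [14, 23], wAm_mem⟩

/-- The generator of the positive orbit of type B₂. -/
noncomputable def eC : GT := ⟨wx [27, 25, 28], wC_mem⟩

/-- The generator of the negative orbit of type B₂. -/
noncomputable def eCm : GT := ⟨wx [20, 22, 19], wCm_mem⟩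

theorem coe_gens : eA.1 = wx [33, 24] ∧ eAm.1 = wx [14, 23] ∧ eC.1 = wx [27, 25, 28] ∧
    eCm.1 = wx [20, 22, 19] := ⟨rfl, rfl, rfl, rfl⟩

attribute [irreducible] eA eAm eC eCm

/-- The Weyl element of the pair. -/
noncomputable def eNa : GT := eA * eAm * eA

/-- The Weyl element of type B₂. -/
noncomputable def eNc : GT := eC * eC * eC * eCm * eC * eC

theorem rep_eNa : Rep eNa.1 naM := by
  have h : eNa.1 = wx wNa := by
    obtain ⟨ha, ham, -, -⟩ := coe_gens
    rw [eNa, Subgroup.coe_mul, Subgroup.coe_mul, ha, ham,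
      show wNa = [33, 24] ++ [14, 23] ++ [33, 24] from rfl, wx_append, wx_append]
  rw [h, ← weyl_mats.1]
  exact rep_wT (by decide)

theorem rep_eNc : Rep eNc.1 ncM := by
  have h : eNc.1 = wx wNc := by
    obtain ⟨-, -, hc, hcm⟩ := coe_gens
    simp only [eNc, Subgroup.coe_mul, hc, hcm]
    rw [show wNc = [27, 25, 28] ++ [27, 25, 28] ++ [27, 25, 28] ++ [20, 22, 19] ++ [27, 25, 28] ++ [27, 25, 28]
      from rfl, wx_append, wx_append, wx_append, wx_append, wx_append]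
  rw [h, ← weyl_mats.2.1]
  exact rep_wT (by decide)

attribute [irreducible] eNa eNc

theorem eNa_sq : eNa * eNa = 1 := by
  apply Subtype.ext
  have h := rep_eNa.mul rep_eNa
  rw [weyl_mats.2.2.1] at h
  exact h.eq rep_one

theorem eNc_sq : eNc * eNc = 1 := by
  apply Subtype.ext
  have h := rep_eNc.mul rep_eNc
  rw [weyl_mats.2.2.2] at h
  exact h.eq rep_one

/-- Conjugation by an involution. -/
noncomputable def cj (n b : GT) : GT := n * (b * n)

theorem rep_cj {n b : GT} {N B : List ℕ} (hn : Rep n.1 N) (hb : Rep b.1 B) :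
    Rep (cj n b).1 (cjL N B) :=
  hn.mul (hb.mul hn)

/-- The eight basic elements. -/
noncomputable def bE : ℕ → GT
  | 0 => eA
  | 1 => cj eNc eA
  | 2 => cj eNa (cj eNc eA)
  | 3 => cj eNc (cj eNa (cj eNc eA))
  | 4 => eC
  | 5 => cj eNa eC
  | 6 => cj eNc (cj eNa eC)
  | _ => cj eNa (cj eNc (cj eNa eC))

theorem bE_eqs : bE 0 = eA ∧ bE 1 = cj eNc (bE 0) ∧ bE 2 = cj eNa (bE 1) ∧ bE 3 = cj eNc (bE 2) ∧
    bE 4 = eC ∧ bE 5 = cj eNa (bE 4) ∧ bE 6 = cj eNc (bE 5) ∧ ∀ k, bE (k + 7) = cj eNa (bE 6) :=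
  ⟨rfl, rfl, rfl, rfl, rfl, rfl, rfl, fun _ => rfl⟩

attribute [irreducible] bE

theorem rep_bE : ∀ j, j < 8 → Rep (bE j).1 (bM.getD j []) := by
  obtain ⟨h0, h1, h2, h3⟩ := base_mats
  obtain ⟨h4, h5, h6, h7⟩ := base_mats'
  obtain ⟨e0, e1, e2, e3, e4, e5, e6, e7⟩ := bE_eqs
  have r0 : Rep (bE 0).1 (bM.getD 0 []) := by
    rw [e0, coe_gens.1, ← h0]; exact rep_wT (by decide)
  have r1 : Rep (bE 1).1 (bM.getD 1 []) := by rw [e1, ← h1]; exact rep_cj rep_eNc r0
  have r2 : Rep (bE 2).1 (bM.getD 2 []) := by rw [e2, ← h2]; exact rep_cj rep_eNa r1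
  have r3 : Rep (bE 3).1 (bM.getD 3 []) := by rw [e3, ← h3]; exact rep_cj rep_eNc r2
  have r4 : Rep (bE 4).1 (bM.getD 4 []) := by
    rw [e4, coe_gens.2.2.1, ← h4]; exact rep_wT (by decide)
  have r5 : Rep (bE 5).1 (bM.getD 5 []) := by rw [e5, ← h5]; exact rep_cj rep_eNa r4
  have r6 : Rep (bE 6).1 (bM.getD 6 []) := by rw [e6, ← h6]; exact rep_cj rep_eNc r5
  have r7 : Rep (bE 7).1 (bM.getD 7 []) := by rw [e7 0, ← h7]; exact rep_cj rep_eNa r6
  intro j hj
  interval_cases j <;> assumption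

/-- A product of basic elements. -/
noncomputable def bP (L : List ℕ) : GT := (L.map bE).prod

theorem bP_cons (j : ℕ) (L : List ℕ) : bP (j :: L) = bE j * bP L := by simp [bP]

theorem rep_bP : ∀ L : List ℕ, (∀ j ∈ L, j < 8) → Rep (bP L).1 (bT L)
  | [], _ => by rw [bT]; exact rep_one
  | j :: L, h => by
    rw [bP_cons, bT]
    exact (rep_bE j (h j (List.mem_cons_self ..))).mul
      (rep_bP L fun i hi => h i (List.mem_cons_of_mem _ hi))

theorem bP_eq_one {L : List ℕ} (h : ∀ j ∈ L, j < 8) (hL : bT L = idL) : bP L = 1 :=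
  Subtype.ext ((hL ▸ rep_bP L h).eq rep_one)

/-- The map to the abelianisation. -/
abbrev φ : GT →* Abelianization GT := Abelianization.of

theorem φ_cj {n : GT} (hn : n * n = 1) (b : GT) : φ (cj n b) = φ b := by
  rw [cj, map_mul, map_mul, mul_comm (φ b), ← mul_assoc, ← map_mul φ n n, hn, map_one, one_mul]

theorem φ_bE (j : ℕ) : φ (bE j) = if j < 4 then φ (bE 0) else φ (bE 4) := by
  obtain ⟨-, e1, e2, e3, -, e5, e6, e7⟩ := bE_eqs
  rcases j with _ | _ | _ | _ | _ | _ | _ | k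
  case succ.succ.succ.succ.succ.succ.succ =>
    rw [if_neg (by omega), e7, φ_cj eNa_sq, e6, φ_cj eNc_sq, e5, φ_cj eNa_sq]
  · rfl
  · rw [if_pos (by omega), e1, φ_cj eNc_sq]
  · rw [if_pos (by omega), e2, φ_cj eNa_sq, e1, φ_cj eNc_sq]
  · rw [if_pos (by omega), e3, φ_cj eNc_sq, e2, φ_cj eNa_sq, e1, φ_cj eNc_sq]
  · rw [if_neg (by omega)]
  · rw [if_neg (by omega), e5, φ_cj eNa_sq]
  · rw [if_neg (by omega), e6, φ_cj eNc_sq, e5, φ_cj eNa_sq]

theorem φ_bP : ∀ L : List ℕ, φ (bP L) = φ (bE 0) ^ (L.countP fun j => decide (j < 4)) *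
    φ (bE 4) ^ (L.countP fun j => Nat.ble 4 j)
  | [] => by simp [bP]
  | j :: L => by
    rw [bP_cons, map_mul, φ_bP L, φ_bE j, List.countP_cons, List.countP_cons]
    by_cases h : j < 4
    · rw [if_pos h, if_pos (by simpa using h), if_neg (by simp [Nat.ble_eq]; omega), add_zero, pow_succ']
      rw [mul_assoc]
    · rw [if_neg h, if_neg (by simpa using h), if_pos (by simp [Nat.ble_eq]; omega), add_zero, pow_succ,
        mul_left_comm, mul_comm (φ (bE 4) ^ _)]

theorem φ_pows : φ (bE 0) = 1 ∧ φ (bE 4) ^ 2 = 1 := by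
  obtain ⟨h1, h2, h3, h4⟩ := rel_mats
  have e : ∀ L : List ℕ, (∀ j ∈ L, j < 8) → bT L = idL → φ (bE 0) ^ (L.countP fun j => decide (j < 4)) *
      φ (bE 4) ^ (L.countP fun j => Nat.ble 4 j) = 1 := fun L hL hT => by
    rw [← φ_bP, bP_eq_one hL hT, map_one]
  have a2 := e [0, 0] (by decide) h1
  have c4 := e [4, 4, 4, 4] (by decide) h2
  have r1 := e [0, 1, 0, 6, 2, 7, 1, 6, 7] (by decide) h3
  have r2 := e [0, 5, 5, 7, 0, 7, 7, 7] (by decide) h4
  rw [show List.countP (fun j => decide (j < 4)) [0, 0] = 2 by decide,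
    show List.countP (fun j => Nat.ble 4 j) [0, 0] = 0 by decide] at a2
  rw [show List.countP (fun j => decide (j < 4)) [4, 4, 4, 4] = 0 by decide,
    show List.countP (fun j => Nat.ble 4 j) [4, 4, 4, 4] = 4 by decide] at c4
  rw [show List.countP (fun j => decide (j < 4)) [0, 1, 0, 6, 2, 7, 1, 6, 7] = 5 by decide,
    show List.countP (fun j => Nat.ble 4 j) [0, 1, 0, 6, 2, 7, 1, 6, 7] = 4 by decide] at r1
  rw [show List.countP (fun j => decide (j < 4)) [0, 5, 5, 7, 0, 7, 7, 7] = 2 by decide,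
    show List.countP (fun j => Nat.ble 4 j) [0, 5, 5, 7, 0, 7, 7, 7] = 6 by decide] at r2
  rw [pow_zero, mul_one] at a2
  rw [pow_zero, one_mul] at c4
  rw [c4, mul_one, pow_succ, pow_mul _ 2 2, a2, one_pow, one_mul] at r1
  rw [a2, one_mul, pow_add _ 4 2, c4, one_mul] at r2
  exact ⟨r1, r2⟩

/-- The generators of the Sylow subgroup. -/
noncomputable def gE (k : ℕ) : GT := bP (gD.getD k [])

theorem gD_lt : (List.range 12).all (fun k => (gD.getD k []).all fun j => Nat.blt j 8) = true := by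
  decide +kernel

theorem rep_gE {k : ℕ} (hk : k < 12) : Rep (gE k).1 (gM.getD k []) := by
  rw [← beq_iff_eq.1 (List.all_eq_true.1 gen_bwords k (List.mem_range.2 hk))]
  exact rep_bP _ fun j hj => by
    simpa [Nat.blt_eq] using List.all_eq_true.1 (List.all_eq_true.1 gD_lt k (List.mem_range.2 hk)) j hj

theorem gP_supp : (List.range 12).all
    (fun k => (gP.getD k []).all fun r => supp.contains r) = true := by
  decide +kernel

theorem gE_pos {k : ℕ} (hk : k < 12) : (gE k).1 ∈ chevF4.posUnipotent (ZMod 2) := by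
  have h := rep_wT (List.all_eq_true.1 gP_supp k (List.mem_range.2 hk))
  rw [beq_iff_eq.1 (List.all_eq_true.1 gen_pwords k (List.mem_range.2 hk))] at h
  rw [(rep_gE hk).eq h, ← factsF4.tsys_U, wx]
  refine Subgroup.list_prod_mem _ fun x hx => ?_
  obtain ⟨r, hr, rfl⟩ := List.mem_map.1 hx
  have hL : gP.getD k [] ∈ gP := by
    rw [List.getD_eq_getElem _ _ (by simpa [gP] using hk)]; exact List.getElem_mem _
  have hr' : 24 ≤ r ∧ r < 48 := by
    simpa [Nat.ble_eq, Nat.blt_eq] using List.all_eq_true.1 (List.all_eq_true.1 gen_pos _ hL) r hr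
  exact CommSys.x_mem_US _ (Facts.mem_posL.2 hr') _

theorem gE_commutator {k : ℕ} (hk : k < 12) (h7 : k ≠ 7) : gE k ∈ commutator GT := by
  have he : ((gD.getD k []).countP fun j => Nat.ble 4 j) % 2 = 0 := by
    simpa [h7] using List.all_eq_true.1 gen_even k (List.mem_range.2 hk)
  obtain ⟨ha, hc⟩ := φ_pows
  have h : φ (gE k) = 1 := by
    rw [gE, φ_bP, ha, one_pow, one_mul, ← Nat.div_add_mod ((gD.getD k []).countP fun j => Nat.ble 4 j) 2, he,
      add_zero, pow_mul, hc, one_pow]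
  exact (QuotientGroup.eq_one_iff _).1 h

end Cfsg.Agent.Lie.F4Two
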