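import Cfsg.Agent.Lib.Lie.F4Two.Bits
import Cfsg.Agent.Lib.Lie.F4Two.Data
import Cfsg.Agent.Lib.Lie.F4Two.XData

/-!
Computations in ²F₄(2): the matrices of the basic elements and of the generators of a Sylow 2-subgroup.
-/

set_option autoImplicit false
set_option maxRecDepth 20000

namespace Cfsg.Agent.Lie.F4Two

/-- The columns of a word in tabulated root elements. -/
noncomputable def wT : List ℕ → List ℕ
  | [] => idL
  | r :: L => mulL (xT r) (wT L)

/-- The columns of a word in basic elements. -/
noncomputable def bT : List ℕ → List ℕ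
  | [] => idL
  | j :: L => mulL (bM.getD j []) (bT L)

/-- Root word of the Weyl element of the pair. -/
def wNa : List ℕ := [33, 24, 14, 23, 33, 24]

/-- Root word of the Weyl element of type B₂. -/
def wNc : List ℕ :=
  [27, 25, 28, 27, 25, 28, 27, 25, 28, 20, 22, 19, 27, 25, 28, 27, 25, 28]

/-- The columns of a conjugate by an involution. -/
noncomputable def cjL (n b : List ℕ) : List ℕ := mulL n (mulL b n)

theorem weyl_mats : wT wNa = naM ∧ wT wNc = ncM ∧ mulL naM naM = idL ∧ mulL ncM ncM = idL := by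
  decide +kernel

theorem base_mats : wT [33, 24] = bM.getD 0 [] ∧ cjL ncM (bM.getD 0 []) = bM.getD 1 [] ∧
    cjL naM (bM.getD 1 []) = bM.getD 2 [] ∧ cjL ncM (bM.getD 2 []) = bM.getD 3 [] := by
  decide +kernel

theorem base_mats' : wT [27, 25, 28] = bM.getD 4 [] ∧ cjL naM (bM.getD 4 []) = bM.getD 5 [] ∧
    cjL ncM (bM.getD 5 []) = bM.getD 6 [] ∧ cjL naM (bM.getD 6 []) = bM.getD 7 [] := by
  decide +kernel

theorem rel_mats : bT [0, 0] = idL ∧ bT [4, 4, 4, 4] = idL ∧
    bT [0, 1, 0, 6, 2, 7, 1, 6, 7] = idL ∧ bT [0, 5, 5, 7, 0, 7, 7, 7] = idL := by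
  decide +kernel

theorem gen_bwords : (List.range 12).all (fun k => bT (gD.getD k []) == gM.getD k []) = true := by
  decide +kernel

theorem gen_pwords : (List.range 12).all (fun k => wT (gP.getD k []) == gM.getD k []) = true := by
  decide +kernel

end Cfsg.Agent.Lie.F4Two
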