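import Cfsg.Agent.Lib.Lie.F4Two.Gens
import Cfsg.Agent.Lib.Lie.TwistF4W

/-!
Every involution of ²F₄(2) lies in the commutator subgroup.
-/

set_option autoImplicit false
set_option maxRecDepth 4000

namespace Cfsg.Agent.Lie.F4Two

open Cfsg.Lie Matrix
open scoped MatrixGroups

theorem Ws_lt : ∀ k, ∀ w ∈ Ws k, ∀ i ∈ w, i < k
  | 0, w, hw => by
    rw [Ws, List.mem_singleton] at hw
    simp [hw]
  | k + 1, w, hw => by
    rw [Ws, List.mem_append, List.mem_map] at hw
    rcases hw with hw | ⟨u, hu, rfl⟩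
    · exact fun i hi => Nat.lt_succ_of_lt (Ws_lt k w hw i hi)
    · intro i hi
      rcases List.mem_cons.1 hi with rfl | hi
      · exact Nat.lt_succ_self _
      · exact Nat.lt_succ_of_lt (Ws_lt k u hu i hi)

theorem Ws_length : ∀ k, (Ws k).length = 2 ^ k
  | 0 => rfl
  | k + 1 => by rw [Ws, List.length_append, List.length_map, Ws_length k, pow_succ]; ring

theorem mem_Wv : ∀ k, ∀ w ∈ Ws k, (w, act w vv) ∈ Wv k
  | 0, w, hw => by
    rw [Ws, List.mem_singleton] at hw
    subst hw
    simp [Wv, act]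
  | k + 1, w, hw => by
    rw [Ws, List.mem_append, List.mem_map] at hw
    rw [Wv, List.mem_append, List.mem_map]
    rcases hw with hw | ⟨u, hu, rfl⟩
    · exact Or.inl (mem_Wv k w hw)
    · exact Or.inr ⟨(u, act u vv), mem_Wv k u hu, by rw [act]⟩

/-- A product of generators. -/
noncomputable def elt (w : List ℕ) : GT := (w.map gE).prod

theorem elt_cons (k : ℕ) (w : List ℕ) : elt (k :: w) = gE k * elt w := by simp [elt]

theorem elt_mulVec : ∀ w : List ℕ, (∀ i ∈ w, i < 12) → ∀ z : ℕ,
    (elt w).1.val *ᵥ (fun q => bz z (pos q)) = fun p => bz (act w z) (pos p)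
  | [], _, z => by
    show (1 : Matrix chevF4.Idx chevF4.Idx (ZMod 2)) *ᵥ _ = _
    rw [Matrix.one_mulVec]
    rfl
  | k :: w, h, z => by
    rw [elt_cons, Subgroup.coe_mul, Units.val_mul, ← Matrix.mulVec_mulVec,
      elt_mulVec w (fun i hi => h i (List.mem_cons_of_mem _ hi)) z, act]
    exact (rep_gE (h k (List.mem_cons_self ..))).mulVec _

theorem bb_lt : bb.all (fun b => Nat.blt b 52) = true := by decide +kernel

theorem elt_nodup : ∀ k, k ≤ 12 → ((Ws k).map elt).Nodup
  | 0, _ => by simp [Ws]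
  | k + 1, hk => by
    have ih := elt_nodup k (by omega)
    rw [Ws, List.map_append, List.map_map, show elt ∘ (k :: ·) = (gE k * ·) ∘ elt from
      funext fun w => elt_cons k w, ← List.map_map, List.nodup_append]
    refine ⟨ih, ih.map (mul_right_injective _), ?_⟩
    intro x hx y hy hxy
    obtain ⟨w, hw, rfl⟩ := List.mem_map.1 hx
    obtain ⟨y', hy', rfl⟩ := List.mem_map.1 hy
    obtain ⟨u, hu, rfl⟩ := List.mem_map.1 hy'
    rw [← elt_cons] at hxy
    have hk' : k < 12 := by omega
    have hs := List.all_eq_true.1 (List.all_eq_true.1 sep k (List.mem_range.2 hk'))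
    have h1 := hs _ (mem_Wv k w hw)
    have h2 := hs _ (mem_Wv k u hu)
    rw [Bool.and_eq_true, beq_iff_eq, beq_iff_eq] at h1 h2
    have hb : bb.getD k 0 < 52 := by
      rw [List.getD_eq_getElem _ _ (by simpa [bb] using hk')]
      simpa [Nat.blt_eq] using List.all_eq_true.1 bb_lt _ (List.getElem_mem _)
    have e := congrArg (fun g : GT => g.1.val *ᵥ (fun q => bz vv (pos q))) hxy
    simp only [elt_mulVec w (fun i hi => (Ws_lt k w hw i hi).trans hk') vv,
      elt_mulVec (k :: u) (fun i hi => by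
        rcases List.mem_cons.1 hi with rfl | hi
        exacts [hk', (Ws_lt k u hu i hi).trans hk']) vv] at e
    have e' := congrFun e ((idxEquiv chevF4).symm ⟨bb.getD k 0, hb⟩)
    simp only [pos, Equiv.apply_symm_apply] at e'
    have h3 : (act w vv).testBit (bb.getD k 0) = (act (k :: u) vv).testBit (bb.getD k 0) := by
      unfold bz at e'
      split_ifs at e' with p q q <;> simp_all
    rw [act, h1.1, h2.2] at h3
    exact absurd h3 (by simp)

theorem elt_sq_ne {w : List ℕ} (hw : w ∈ Ws 12) (h7 : 7 ∈ w) : elt w * elt w ≠ 1 := by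
  intro h
  have h1 := List.all_eq_true.1 outer _ (mem_Wv 12 w hw)
  simp only [List.contains_eq_mem, h7, decide_true, Bool.not_true, Bool.false_or, bne_iff_ne, ne_eq] at h1
  refine h1 (Nat.eq_of_testBit_eq fun i => ?_)
  have hlt := Ws_lt 12 w hw
  have e := congrArg (fun g : GT => g.1.val *ᵥ (fun q => bz vv (pos q))) h
  simp only [Subgroup.coe_mul, Units.val_mul, ← Matrix.mulVec_mulVec, elt_mulVec w hlt, OneMemClass.coe_one,
    Units.val_one, Matrix.one_mulVec] at e
  have bnd : ∀ (A : List ℕ) (z : ℕ), (∀ c ∈ A, c < 2 ^ 52) → app A z < 2 ^ 52 := by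
    intro A
    induction A with
    | nil => intro z _; simp [app_nil]
    | cons c cs ih =>
      intro z hc
      rw [app_cons]
      refine Nat.xor_lt_two_pow ?_ (ih _ fun d hd => hc d (List.mem_cons_of_mem _ hd))
      rcases Nat.mod_two_eq_zero_or_one z with h | h <;> rw [h]
      · rw [zero_mul]; exact Nat.two_pow_pos _
      · rw [one_mul]; exact hc c (List.mem_cons_self ..)
  by_cases hi : i < 52
  · have e' := congrFun e ((idxEquiv chevF4).symm ⟨i, hi⟩)
    simp only [pos, Equiv.apply_symm_apply] at e'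
    unfold bz at e'
    split_ifs at e' with p q q <;> simp_all
  · have hg : ∀ k, ∀ c ∈ gM.getD k [], c < 2 ^ 52 := by
      intro k c hc
      by_cases hk : k < 12
      · have : (List.range 12).all (fun k => (gM.getD k []).all fun c => Nat.blt c (2 ^ 52)) = true := by
          decide +kernel
        simpa [Nat.blt_eq] using List.all_eq_true.1 (List.all_eq_true.1 this k (List.mem_range.2 hk)) c hc
      · rw [List.getD_eq_default _ _ (by rw [show gM.length = 12 from rfl]; omega)] at hc
        simp at hc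
    have hz : ∀ z, act w z < 2 ^ 52 := fun z => by
      cases w with
      | nil => simp at h7
      | cons k u => exact bnd _ _ (hg k)
    have hle : 2 ^ 52 ≤ 2 ^ i := Nat.pow_le_pow_right (by norm_num) (by omega)
    rw [Nat.testBit_lt_two_pow ((hz _).trans_le hle),
      Nat.testBit_lt_two_pow ((show vv < 2 ^ 52 by decide).trans_le hle)]

theorem card_data : Nat.card GT = 4096 * 8775 ∧
    Nat.card ↥((chevF4.posUnipotent (ZMod 2)).subgroupOf (twistedF4 (ZMod 2) 1)) = 4096 := by
  obtain ⟨S⟩ := F4.nonempty_setup (K := ZMod 2) (m := 0) (by simp)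
  refine ⟨?_, ?_⟩
  · exact S.card_group
  · rw [← Subgroup.inf_subgroupOf_right,
      Nat.card_congr (Subgroup.subgroupOfEquivOfLe inf_le_right).toEquiv]
    have hu : Nat.card ↥(chevF4.posUnipotent (ZMod 2) ⊓ twistedF4 (ZMod 2) 1) ^ 2 = (2 ^ 1) ^ 24 :=
      S.data.card_U
    exact Nat.pow_left_injective two_ne_zero (hu.trans (by norm_num))

theorem mem_list_of_mem_pos {x : GT}
    (hx : x ∈ (chevF4.posUnipotent (ZMod 2)).subgroupOf (twistedF4 (ZMod 2) 1)) :
    ∃ w ∈ Ws 12, elt w = x := by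
  classical
  set P := (chevF4.posUnipotent (ZMod 2)).subgroupOf (twistedF4 (ZMod 2) 1) with hP
  let s : Finset GT := ((Ws 12).map elt).toFinset
  have hsub : (↑s : Set GT) ⊆ (P : Set GT) := by
    intro g hg
    obtain ⟨w, hw, rfl⟩ := List.mem_map.1 (List.mem_toFinset.1 hg)
    refine Subgroup.list_prod_mem _ fun y hy => ?_
    obtain ⟨k, hk, rfl⟩ := List.mem_map.1 hy
    exact Subgroup.mem_subgroupOf.2 (gE_pos (Ws_lt 12 w hw k hk))
  have hs : (↑s : Set GT).ncard = 4096 := by
    rw [Set.ncard_coe_finset, List.toFinset_card_of_nodup (elt_nodup 12 le_rfl), List.length_map, Ws_length]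
    norm_num
  have hc : (P : Set GT).ncard = 4096 := by
    rw [← Nat.card_coe_set_eq]
    exact card_data.2
  have := Set.eq_of_subset_of_ncard_le hsub (by rw [hs, hc]) (Set.toFinite _)
  have hx' : x ∈ (↑s : Set GT) := this ▸ hx
  exact List.mem_map.1 (List.mem_toFinset.1 hx')

theorem involution_mem_commutator (g : GT) (hg : orderOf g = 2) : g ∈ commutator GT := by
  have : Fact (Nat.Prime 2) := ⟨Nat.prime_two⟩
  obtain ⟨hG, hU⟩ := card_data
  set P := (chevF4.posUnipotent (ZMod 2)).subgroupOf (twistedF4 (ZMod 2) 1) with hP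
  have hPp : IsPGroup 2 ↥P := IsPGroup.of_card (n := 12) (by rw [hU]; norm_num)
  have hi : P.index = 8775 := by
    have := P.card_mul_index
    rw [hU, hG] at this
    exact mul_left_cancel₀ (by norm_num) this
  let SP : Sylow 2 GT := hPp.toSylow (by rw [hi]; norm_num)
  have hz : IsPGroup 2 ↥(Subgroup.zpowers g) :=
    IsPGroup.of_card (n := 1) (by rw [Nat.card_zpowers, hg, pow_one])
  obtain ⟨Q, hQ⟩ := hz.exists_le_sylow
  obtain ⟨c, hc⟩ := MulAction.exists_smul_eq GT SP Q
  have hgQ : g ∈ (Q : Subgroup GT) := hQ (Subgroup.mem_zpowers g)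
  rw [← hc, Sylow.coe_subgroup_smul, Subgroup.mem_pointwise_smul_iff_inv_smul_mem] at hgQ
  have hgP : c⁻¹ * g * c ∈ P := by simpa [MulAut.conj_inv_apply, SP] using hgQ
  obtain ⟨w, hw, he⟩ := mem_list_of_mem_pos hgP
  have hsq : g * g = 1 := by
    have h := pow_orderOf_eq_one g
    rwa [hg, sq] at h
  have h7 : 7 ∉ w := fun h7 => elt_sq_ne hw h7 (by
    rw [he, show c⁻¹ * g * c * (c⁻¹ * g * c) = c⁻¹ * (g * g) * c by group, hsq, mul_one, inv_mul_cancel])
  have hK : c⁻¹ * g * c ∈ commutator GT := by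
    rw [← he]
    refine Subgroup.list_prod_mem _ fun y hy => ?_
    obtain ⟨k, hk, rfl⟩ := List.mem_map.1 hy
    exact gE_commutator (Ws_lt 12 w hw k hk) (fun h => h7 (h ▸ hk))
  simpa [mul_assoc] using
    (inferInstance : (commutator GT).Normal).conj_mem _ hK c

end Cfsg.Agent.Lie.F4Two
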